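import Groth.Agent.Pi1.H397.Conn
import Groth.Agent.Pi1.H397.Univ
import Groth.Agent.S0267
import Groth.Agent.Pi1A.NormalFF
import Groth.Agent.Flat2E.FinSepClosure
import Mathlib.LinearAlgebra.FreeModule.Finite.Matrix

/-!
# Connected finite etale covers with sections over a finitely generated extension of the function
field have bounded degree
-/

set_option autoImplicit false
universe u

open CategoryTheory CategoryTheory.Limits AlgebraicGeometry TopologicalSpace
open Groth.Agent.Pi1B.FieldGal Groth.Agent.Pi1B.FEtPreGalois Groth.Agent.Pi1B.FEtFibre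

namespace Groth.Agent.Pi1.H397.Bound

section Field

variable (K L Ω : Type u) [Field K] [Field L] [Field Ω] [Algebra K L]

/-- A connected finite etale algebra over a field with a homomorphism to `L` embeds into `L`. -/
theorem injective_of_connected (A : Type u) [CommRing A] [Algebra K A] [Module.Finite K A]
    [Algebra.Etale K A] [ConnectedSpace (PrimeSpectrum A)] (φ : A →ₐ[K] L) :
    Function.Injective φ := by
  have hart : IsArtinianRing A := isArtinian_of_tower K inferInstance
  have hred : IsReduced A := Algebra.FormallyUnramified.isReduced_of_field K A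
  have hsub : Subsingleton (PrimeSpectrum A) := subsingleton_of_preconnected_totallyDisconnected
  let p : PrimeSpectrum A := ⟨RingHom.ker φ.toRingHom, RingHom.ker_isPrime _⟩
  have hp : p.asIdeal ≤ ⊥ := by
    intro a ha
    have : a ∈ nilradical A := by
      rw [nilradical_eq_sInf, Submodule.mem_sInf]
      intro q hq
      have : p = ⟨q, hq⟩ := Subsingleton.elim _ _
      rw [this] at ha
      exact ha
    rw [nilradical_eq_zero] at this
    exact this
  exact (RingHom.injective_iff_ker_eq_bot φ.toRingHom).mpr (le_bot_iff.mp hp)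

theorem finrank_le [Algebra.EssFiniteType K L] (A : Type u) [CommRing A] [Algebra K A]
    [Module.Finite K A]
    [Algebra.Etale K A] [ConnectedSpace (PrimeSpectrum A)] (φ : A →ₐ[K] L) :
    Module.finrank K A ≤ Module.finrank K (algebraicClosure K L) := by
  have hfin : FiniteDimensional K (algebraicClosure K L) :=
    Groth.Agent.Flat2E.FinSepClosure.finiteDimensional_of_isAlgebraic _
  have hmem : ∀ a, φ a ∈ algebraicClosure K L := fun a =>
    mem_algebraicClosure_iff'.2 ((Algebra.IsIntegral.isIntegral (R := K) a).map φ)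
  let ψ : A →ₗ[K] algebraicClosure K L :=
    { toFun := fun a => ⟨φ a, hmem a⟩
      map_add' := fun a b => Subtype.ext (map_add φ a b)
      map_smul' := fun c a => Subtype.ext (map_smul φ c a) }
  refine LinearMap.finrank_le_finrank_of_injective (f := ψ) ?_
  intro a b hab
  exact injective_of_connected K L A φ (congrArg Subtype.val hab)

theorem card_le [Algebra.EssFiniteType K L] (ξ : Spec (CommRingCat.of Ω) ⟶ Spec (CommRingCat.of K))
    (Y : FEt.Cat (Spec (CommRingCat.of K))) [ConnectedSpace Y.left]
    (s : Spec (CommRingCat.of L) ⟶ Y.left)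
    (hs : s ≫ Y.hom = Spec.map (CommRingCat.ofHom (algebraMap K L))) :
    Nat.card (FEt.fiberObj ξ Y) ≤ Module.finrank K (algebraicClosure K L) := by
  obtain ⟨A, _, _, _, _, ⟨e⟩⟩ := exists_iso_mkSpec K Y
  let e' : Y.left ≅ Spec (CommRingCat.of A) :=
    (MorphismProperty.Over.forget FEt.prop ⊤ _ ⋙ Over.forget _).mapIso e
  have he' : e'.hom ≫ Spec.map (CommRingCat.ofHom (algebraMap K A)) = Y.hom :=
    MorphismProperty.Over.w e.hom
  have hconn : ConnectedSpace (PrimeSpectrum A) := by
    have : Function.Surjective e'.hom := e'.hom.homeomorph.surjective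
    exact this.connectedSpace e'.hom.continuous
  let _ : Algebra K Ω := (Spec.preimage ξ).hom.toAlgebra
  have hξ : Spec.map (CommRingCat.ofHom (algebraMap K Ω)) = ξ := Spec.map_preimage ξ
  -- morphisms of spectra over `K` are algebra homomorphisms
  have key : ∀ (M : Type u) [Field M] [Algebra K M] (t : Spec (CommRingCat.of M) ⟶ Y.left),
      t ≫ Y.hom = Spec.map (CommRingCat.ofHom (algebraMap K M)) →
      ∃ ψ : A →ₐ[K] M, Spec.map (CommRingCat.ofHom ψ.toRingHom) = t ≫ e'.hom := by
    intro M _ _ t ht
    let ψ₀ : CommRingCat.of A ⟶ CommRingCat.of M := Spec.preimage (t ≫ e'.hom)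
    have hψ₀ : Spec.map ψ₀ = t ≫ e'.hom := Spec.map_preimage _
    have h1 : CommRingCat.ofHom (algebraMap K A) ≫ ψ₀ = CommRingCat.ofHom (algebraMap K M) := by
      apply Spec.map_injective
      rw [Spec.map_comp, hψ₀, Category.assoc, he', ht]
    refine ⟨{ ψ₀.hom with commutes' := fun r => ?_ }, ?_⟩
    · exact congr($(h1).hom r)
    · exact hψ₀
  obtain ⟨φ, -⟩ := key L s hs
  refine le_trans ?_ (finrank_le K L A φ)
  refine le_trans ?_ (card_algHom_le_finrank K A Ω)
  choose f hf using fun t : FEt.fiberObj ξ Y => key Ω t.1 (t.2.trans hξ.symm)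
  refine Nat.card_le_card_of_injective f ?_
  intro t t' htt
  apply Subtype.ext
  rw [← cancel_mono e'.hom, ← hf t, ← hf t', htt]

end Field

section Scheme

variable {X : Scheme.{u}}

/-- If every connected finite etale cover of a normal integral scheme `X` acquires a section over
`Spec L`, for a finitely generated extension `L` of the function field, then one connected finite
etale cover dominates all the others. -/
theorem exists_universal [IsIntegral X] (hX : Pi1.IsNormalScheme X) (L : Type u) [Field L]
    (φ : X.presheaf.stalk (genericPoint X) →+* L) (hφ : φ.EssFiniteType)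
    (hsec : ∀ Z : FEt.Cat X, ConnectedSpace Z.left → ∃ s : Spec (CommRingCat.of L) ⟶ Z.left,
      s ≫ Z.hom = Spec.map (CommRingCat.ofHom φ) ≫ X.fromSpecStalk (genericPoint X)) :
    ∃ Z₀ : FEt.Cat X, ConnectedSpace Z₀.left ∧
      ∀ Z : FEt.Cat X, ConnectedSpace Z.left → Nonempty (Z₀ ⟶ Z) := by
  let K : Type u := X.presheaf.stalk (genericPoint X)
  let _ : Field K := inferInstanceAs (Field X.functionField)
  let _ : Algebra K L := φ.toAlgebra
  have hess : Algebra.EssFiniteType K L := hφ
  let Ω : Type u := AlgebraicClosure L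
  let ξK : Spec (CommRingCat.of Ω) ⟶ Spec (CommRingCat.of K) :=
    Spec.map (CommRingCat.ofHom ((algebraMap L Ω).comp φ))
  let η : Spec (CommRingCat.of K) ⟶ X := X.fromSpecStalk (genericPoint X)
  let ξ : Spec (CommRingCat.of Ω) ⟶ X := ξK ≫ η
  have hXc : ConnectedSpace X := inferInstance
  have hKc : ConnectedSpace (Spec (CommRingCat.of K)) :=
    inferInstanceAs (ConnectedSpace (PrimeSpectrum K))
  have hG1 : GaloisCategory (FEt.Cat X) := ⟨⟨fiberF ξ, ⟨inferInstance⟩⟩⟩
  have hG2 : GaloisCategory (FEt.Cat (Spec (CommRingCat.of K))) :=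
    ⟨⟨fiberF ξK, ⟨inferInstance⟩⟩⟩
  have hff : (FEt.restrict η).Full ∧ (FEt.restrict η).Faithful :=
    Groth.Agent.Pi1A.NormalFF.restrict_genericPoint hX
  have hconn := (Groth.Agent.S0267.result (FEt.restrict η)).1 hff
  have hbound : ∀ Z : FEt.Cat X, PreGaloisCategory.IsConnected Z →
      Nat.card ((fiberF ξ).obj Z) ≤ Module.finrank K (algebraicClosure K L) := by
    intro Z hZ
    have hZ' : ConnectedSpace Z.left := (Conn.isConnected_iff Z).1 hZ
    have hZK : ConnectedSpace ((FEt.restrict η).obj Z).left :=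
      (Conn.isConnected_iff _).1 (hconn Z hZ)
    obtain ⟨s, hs⟩ := hsec Z hZ'
    refine le_trans ?_ (card_le K L Ω ξK ((FEt.restrict η).obj Z)
      (pullback.lift s (Spec.map (CommRingCat.ofHom φ)) hs) (pullback.lift_snd _ _ _))
    let g : FEt.fiberObj ξ Z → FEt.fiberObj ξK ((FEt.restrict η).obj Z) := fun t =>
      ⟨pullback.lift t.1 ξK t.2, pullback.lift_snd _ _ _⟩
    have hfin : Finite (FEt.fiberObj ξK ((FEt.restrict η).obj Z)) :=
      Groth.Agent.S0294.result ξK _
    refine Nat.card_le_card_of_injective g ?_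
    intro t t' htt
    apply Subtype.ext
    have h1 := congrArg Subtype.val htt
    have h2 := congrArg (fun q => q ≫ pullback.fst Z.hom η) h1
    have h3 : pullback.lift t.1 ξK t.2 ≫ pullback.fst Z.hom η = t.1 := pullback.lift_fst _ _ _
    have h4 : pullback.lift t'.1 ξK t'.2 ≫ pullback.fst Z.hom η = t'.1 := pullback.lift_fst _ _ _
    exact h3.symm.trans (h2.trans h4)
  have hne : ∃ Z : FEt.Cat X, PreGaloisCategory.IsConnected Z := by
    refine ⟨MorphismProperty.Over.mk ⊤ (𝟙 X) (FEt.prop.id_mem _), ?_⟩
    rw [Conn.isConnected_iff]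
    exact hXc
  obtain ⟨Z₀, hZ₀, h⟩ := Univ.exists_dominating (fiberF ξ) _ hbound hne
  exact ⟨Z₀, (Conn.isConnected_iff _).1 hZ₀, fun Z hZ => h Z ((Conn.isConnected_iff _).2 hZ)⟩

end Scheme

end Groth.Agent.Pi1.H397.Bound
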