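import Groth.Agent.Pi1.H397.Bound
import Groth.Agent.VarietyB.ResMap
import Groth.Prelude.Def_Pi1
import Groth.Prelude.Def_CurvBase
import Mathlib.RingTheory.MvPolynomial.Basic
import Mathlib.RingTheory.Localization.FractionRing
import Mathlib.AlgebraicGeometry.Morphisms.Proper

/-!
# Finiteness of the fundamental group of a unirational variety, given the splitting of the pull-backs
of finite etale covers to a purely transcendental extension
-/

set_option autoImplicit false
universe u

open CategoryTheory CategoryTheory.Limits AlgebraicGeometry TopologicalSpace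

namespace Groth.Agent.Pi1.H397.Final

/-- A split pull-back along `x : T ⟶ X` has a section, for a connected cover. -/
theorem exists_section_of_isSplit {X T : Scheme.{u}} [ConnectedSpace X] [Nonempty T] (x : T ⟶ X)
    (Y : FEt.Cat X) [ConnectedSpace Y.left] (h : Pi1.IsSplit ((FEt.restrict x).obj Y)) :
    ∃ s : T ⟶ Y.left, s ≫ Y.hom = x := by
  obtain ⟨ι, hι, e, he⟩ := h
  -- the cover `Y` is surjective
  let f : Y.left ⟶ X := Y.hom
  have hfin : IsFinite f := Y.prop.1
  have het : Etale f := Y.prop.2
  have hsurj : Function.Surjective f := by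
    rw [← Set.range_eq_univ]
    have hcl : IsClopen (Set.range f) :=
      ⟨f.isClosedMap.isClosed_range, f.isOpenMap.isOpen_range⟩
    exact hcl.eq_univ (Set.range_nonempty _)
  have hne : Nonempty ((FEt.restrict x).obj Y).left := by
    have hs : Surjective f := ⟨hsurj⟩
    have hs' : Surjective (pullback.snd f x) := inferInstance
    obtain ⟨t, -⟩ := hs'.surj (Classical.arbitrary T)
    exact ⟨t⟩
  have hnι : Nonempty ι := by
    by_contra hc
    rw [not_nonempty_iff] at hc
    obtain ⟨y⟩ := hne
    have : IsEmpty (∐ fun _ : ι => T : Scheme.{u}) := by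
      constructor
      intro z
      obtain ⟨i, -⟩ := (Scheme.IsLocallyDirected.openCover (Discrete.functor fun _ : ι => T)).exists_eq z
      exact hc.false i.as
    exact this.false (e.hom y)
  obtain ⟨i⟩ := hnι
  let e' : pullback f x ≅ ∐ fun _ : ι => T := e
  have h1 : Sigma.ι (fun _ : ι => T) i ≫ e'.inv ≫ pullback.snd f x = 𝟙 T := he i
  refine ⟨Sigma.ι (fun _ : ι => T) i ≫ e'.inv ≫ pullback.fst f x, ?_⟩
  change (Sigma.ι (fun _ : ι => T) i ≫ e'.inv ≫ pullback.fst f x) ≫ f = x
  rw [Category.assoc, Category.assoc, pullback.condition, reassoc_of% h1]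

theorem exists_universal (k : Type u) [Field k] [IsAlgClosed k] (X : Scheme.{u})
    [X.Over (Spec (CommRingCat.of k))] [IsProper (X ↘ Spec (CommRingCat.of k))] [IsIntegral X]
    (hN : Pi1.IsNormalScheme X)
    (r : ℕ)
    (hU : letI := Curv2.stalkAlgebra k X (genericPoint X)
      Nonempty (X.presheaf.stalk (genericPoint X) →ₐ[k] FractionRing (MvPolynomial (Fin r) k)))
    (core : ∀ (x : Spec (CommRingCat.of (FractionRing (MvPolynomial (Fin r) k))) ⟶ X)
      (_ : x ≫ (X ↘ Spec (CommRingCat.of k)) = Spec.map (CommRingCat.ofHom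
        (algebraMap k (FractionRing (MvPolynomial (Fin r) k))))) (Y : FEt.Cat X),
      Pi1.IsSplit ((FEt.restrict x).obj Y)) :
    ∃ Z₀ : FEt.Cat X, ConnectedSpace Z₀.left ∧
      ∀ Z : FEt.Cat X, ConnectedSpace Z.left → Nonempty (Z₀ ⟶ Z) := by
  let _ := Curv2.stalkAlgebra k X (genericPoint X)
  obtain ⟨φ⟩ := hU
  have hess : Algebra.EssFiniteType k (FractionRing (MvPolynomial (Fin r) k)) :=
    .comp k (MvPolynomial (Fin r) k) _
  have hφ : φ.toRingHom.EssFiniteType := by
    let _ : Algebra (X.presheaf.stalk (genericPoint X)) (FractionRing (MvPolynomial (Fin r) k)) :=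
      φ.toRingHom.toAlgebra
    have : IsScalarTower k (X.presheaf.stalk (genericPoint X))
        (FractionRing (MvPolynomial (Fin r) k)) := .of_algebraMap_eq fun a => (φ.commutes a).symm
    exact Algebra.EssFiniteType.of_comp k (X.presheaf.stalk (genericPoint X)) _
  refine Bound.exists_universal hN _ φ.toRingHom hφ fun Z hZ => ?_
  refine exists_section_of_isSplit _ Z (core _ ?_ Z)
  rw [Category.assoc, ← Groth.Agent.VarietyB.ResMap.specMap_stalkMap, ← Spec.map_comp,
    ← CommRingCat.ofHom_comp]
  congr 2
  ext a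
  exact φ.commutes a

end Groth.Agent.Pi1.H397.Final
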