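import Mathlib.RingTheory.Valuation.ValuationSubring
import Mathlib.RingTheory.DiscreteValuationRing.Basic
import Mathlib.RingTheory.Polynomial.Basic
import Mathlib.RingTheory.Localization.FractionRing
import Mathlib.Algebra.Polynomial.Inductions

/-!
# The valuation ring at infinity of a rational function field
-/

set_option autoImplicit false

open Polynomial

namespace Groth.Agent.Pi1.H397.Infty

variable (F L : Type*) [Field F] [Field L] [Algebra F[X] L] [IsFractionRing F[X] L]

theorem algebraMap_ne_zero {f : F[X]} (hf : f ≠ 0) : algebraMap F[X] L f ≠ 0 := by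
  rwa [Ne, map_eq_zero_iff _ (IsFractionRing.injective F[X] L)]

/-- The valuation ring at infinity of `F(X)`. -/
def W : ValuationSubring L where
  carrier := {x | ∃ f g : F[X], g ≠ 0 ∧ f.natDegree ≤ g.natDegree ∧
    x * algebraMap F[X] L g = algebraMap F[X] L f}
  mul_mem' := by
    rintro a b ⟨f, g, hg, hd, h⟩ ⟨f', g', hg', hd', h'⟩
    refine ⟨f * f', g * g', mul_ne_zero hg hg', ?_, ?_⟩
    · rw [natDegree_mul hg hg']
      exact natDegree_mul_le.trans (add_le_add hd hd')
    · rw [map_mul, map_mul, ← h, ← h']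
      ring
  one_mem' := ⟨1, 1, one_ne_zero, le_rfl, by simp⟩
  add_mem' := by
    rintro a b ⟨f, g, hg, hd, h⟩ ⟨f', g', hg', hd', h'⟩
    refine ⟨f * g' + f' * g, g * g', mul_ne_zero hg hg', ?_, ?_⟩
    · rw [natDegree_mul hg hg']
      refine (natDegree_add_le _ _).trans (max_le ?_ ?_)
      · exact natDegree_mul_le.trans (add_le_add hd le_rfl)
      · exact natDegree_mul_le.trans (by omega)
    · simp only [map_mul, map_add, ← h, ← h']
      ring
  zero_mem' := ⟨0, 1, one_ne_zero, by simp, by simp⟩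
  neg_mem' := by
    rintro a ⟨f, g, hg, hd, h⟩
    exact ⟨-f, g, hg, by rwa [natDegree_neg], by rw [map_neg, ← h]; ring⟩
  mem_or_inv_mem' := by
    intro x
    obtain ⟨f, g, hg, rfl⟩ := IsFractionRing.div_surjective (A := F[X]) x
    have hg0 : g ≠ 0 := nonZeroDivisors.ne_zero hg
    have hg' := algebraMap_ne_zero F L hg0
    rcases le_total f.natDegree g.natDegree with h | h
    · exact Or.inl ⟨f, g, hg0, h, div_mul_cancel₀ _ hg'⟩
    · by_cases hf : f = 0
      · left
        exact ⟨0, 1, one_ne_zero, by simp, by simp [hf]⟩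
      · right
        refine ⟨g, f, hf, h, ?_⟩
        rw [inv_div]
        exact div_mul_cancel₀ _ (algebraMap_ne_zero F L hf)

variable {F L}

theorem mem_W {x : L} : x ∈ W F L ↔ ∃ f g : F[X], g ≠ 0 ∧ f.natDegree ≤ g.natDegree ∧
    x * algebraMap F[X] L g = algebraMap F[X] L f := Iff.rfl

/-- A polynomial in the valuation ring at infinity is constant. -/
theorem natDegree_of_mem {f : F[X]} (h : algebraMap F[X] L f ∈ W F L) : f.natDegree = 0 := by
  obtain ⟨f', g, hg, hd, h⟩ := h
  rw [← map_mul] at h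
  have h1 : f * g = f' := IsFractionRing.injective F[X] L h
  by_cases hf : f = 0
  · simp [hf]
  · rw [← h1, natDegree_mul hf hg] at hd
    omega

theorem C_mem (a : F) : algebraMap F[X] L (C a) ∈ W F L :=
  ⟨C a, 1, one_ne_zero, by simp, by simp⟩

theorem X_ne_zero : algebraMap F[X] L X ≠ 0 := algebraMap_ne_zero F L Polynomial.X_ne_zero

theorem inv_X_mem : (algebraMap F[X] L X)⁻¹ ∈ W F L :=
  ⟨1, X, Polynomial.X_ne_zero, by simp, by rw [map_one, inv_mul_cancel₀ X_ne_zero]⟩

theorem X_notMem : algebraMap F[X] L X ∉ W F L := by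
  intro h
  simpa using natDegree_of_mem h

/-- Elements of the valuation ring at infinity are constant modulo the uniformizer. -/
theorem exists_const (w : L) (hw : w ∈ W F L) :
    ∃ a : F, algebraMap F[X] L X * (w - algebraMap F[X] L (C a)) ∈ W F L := by
  obtain ⟨f, g, hg, hd, h⟩ := hw
  refine ⟨f.coeff g.natDegree / g.leadingCoeff, ?_⟩
  set a := f.coeff g.natDegree / g.leadingCoeff with ha
  have hlc : g.leadingCoeff ≠ 0 := leadingCoeff_ne_zero.mpr hg
  have hlt : X * (f - C a * g) = 0 ∨ (X * (f - C a * g)).natDegree ≤ g.natDegree := by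
    by_cases h0 : f - C a * g = 0
    · left; rw [h0, mul_zero]
    · right
      rw [natDegree_X_mul h0]
      have h1 : (f - C a * g).natDegree ≤ g.natDegree :=
        (natDegree_sub_le _ _).trans (max_le hd (natDegree_C_mul_le _ _))
      have h2 : (f - C a * g).coeff g.natDegree = 0 := by
        rw [coeff_sub, coeff_C_mul, ha]
        change _ - _ * g.leadingCoeff = 0
        rw [div_mul_cancel₀ _ hlc, sub_self]
      have h3 : (f - C a * g).natDegree ≠ g.natDegree := by
        intro h4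
        apply h0
        rw [← leadingCoeff_eq_zero]
        change (f - C a * g).coeff (f - C a * g).natDegree = 0
        rw [h4, h2]
      omega
  refine ⟨X * (f - C a * g), g, hg, ?_, ?_⟩
  · rcases hlt with h0 | h0
    · rw [h0]; simp
    · exact h0
  · simp only [map_mul, map_sub, ← h]
    ring

theorem exists_pow_mul_mem (l : L) : ∃ m : ℕ, ((algebraMap F[X] L X)⁻¹) ^ m * l ∈ W F L := by
  obtain ⟨f, g, hg, rfl⟩ := IsFractionRing.div_surjective (A := F[X]) l
  have hg0 : g ≠ 0 := nonZeroDivisors.ne_zero hg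
  refine ⟨f.natDegree, f, X ^ f.natDegree * g, mul_ne_zero (pow_ne_zero _ Polynomial.X_ne_zero) hg0, ?_, ?_⟩
  · rw [natDegree_mul (pow_ne_zero _ Polynomial.X_ne_zero) hg0, natDegree_X_pow]
    omega
  · rw [map_mul, map_pow, inv_pow]
    have h1 : algebraMap F[X] L X ^ f.natDegree ≠ 0 := pow_ne_zero _ X_ne_zero
    have h2 := algebraMap_ne_zero F L hg0
    field_simp

/-- `X ^ k` lies in the valuation ring at infinity only for `k ≤ 0`. -/
theorem zpow_X_mem {k : ℤ} (h : algebraMap F[X] L X ^ k ∈ W F L) : k ≤ 0 := by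
  by_contra hk
  obtain ⟨n, rfl⟩ : ∃ n : ℕ, k = n := ⟨k.toNat, by omega⟩
  rw [zpow_natCast, ← map_pow] at h
  have := natDegree_of_mem h
  rw [natDegree_X_pow] at this
  omega

theorem zpow_X_mem_of_nonpos {k : ℤ} (h : k ≤ 0) : algebraMap F[X] L X ^ k ∈ W F L := by
  obtain ⟨n, rfl⟩ : ∃ n : ℕ, k = -n := ⟨(-k).toNat, by omega⟩
  rw [zpow_neg, zpow_natCast, ← inv_pow]
  exact pow_mem inv_X_mem n

variable (F L) in
/-- The uniformizer at infinity. -/
noncomputable def unif : W F L := ⟨(algebraMap F[X] L X)⁻¹, inv_X_mem⟩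

theorem not_isUnit_unif : ¬ IsUnit (unif F L) := by
  rintro ⟨u, hu⟩
  apply X_notMem (F := F) (L := L)
  have h1 : ((u⁻¹ : (W F L)ˣ) : W F L) * unif F L = 1 := by rw [← hu, Units.inv_mul]
  have h2 : (((u⁻¹ : (W F L)ˣ) : W F L) : L) * (algebraMap F[X] L X)⁻¹ = 1 := congrArg Subtype.val h1
  have h3 : (((u⁻¹ : (W F L)ˣ) : W F L) : L) = algebraMap F[X] L X := by
    rwa [mul_inv_eq_one₀ X_ne_zero] at h2
  rw [← h3]
  exact Subtype.property _

theorem exists_unit_mul_pow (x : W F L) (hx : x ≠ 0) : ∃ (n : ℕ) (u : (W F L)ˣ),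
    x = u * unif F L ^ n := by
  obtain ⟨x, f, g, hg, hd, h⟩ := x
  have hx0 : x ≠ 0 := fun h0 => hx (Subtype.ext h0)
  have hf : f ≠ 0 := by
    rintro rfl
    rw [map_zero] at h
    exact (mul_ne_zero hx0 (algebraMap_ne_zero F L hg)) h
  obtain ⟨n, hn⟩ := Nat.exists_eq_add_of_le hd
  have hX := X_ne_zero (F := F) (L := L)
  have hXn : algebraMap F[X] L X ^ n ≠ 0 := pow_ne_zero _ hX
  have hfn : (X ^ n * f).natDegree = g.natDegree := by
    rw [natDegree_mul (pow_ne_zero _ Polynomial.X_ne_zero) hf, natDegree_X_pow, hn]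
    omega
  have h1 : x * algebraMap F[X] L X ^ n ∈ W F L :=
    ⟨X ^ n * f, g, hg, hfn.le, by rw [map_mul, map_pow, ← h]; ring⟩
  have h2 : (x * algebraMap F[X] L X ^ n)⁻¹ ∈ W F L :=
    ⟨g, X ^ n * f, mul_ne_zero (pow_ne_zero _ Polynomial.X_ne_zero) hf, hfn.ge, by
      rw [map_mul, map_pow, ← h]
      field_simp⟩
  have h3 : x * algebraMap F[X] L X ^ n ≠ 0 := mul_ne_zero hx0 hXn
  refine ⟨n, ⟨⟨_, h1⟩, ⟨_, h2⟩, Subtype.ext (mul_inv_cancel₀ h3), Subtype.ext (inv_mul_cancel₀ h3)⟩, ?_⟩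
  apply Subtype.ext
  change x = x * algebraMap F[X] L X ^ n * ((algebraMap F[X] L X)⁻¹) ^ n
  rw [mul_assoc, ← mul_pow, mul_inv_cancel₀ hX, one_pow, mul_one]

theorem unif_ne_zero : unif F L ≠ 0 := by
  intro h
  exact inv_ne_zero (X_ne_zero (F := F) (L := L)) (congrArg Subtype.val h)

theorem irreducible_unif : Irreducible (unif F L) := by
  refine ⟨not_isUnit_unif, fun {a b} hab => ?_⟩
  have ha : a ≠ 0 := by rintro rfl; rw [zero_mul] at hab; exact unif_ne_zero hab
  have hb : b ≠ 0 := by rintro rfl; rw [mul_zero] at hab; exact unif_ne_zero hab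
  obtain ⟨n, u, rfl⟩ := exists_unit_mul_pow a ha
  obtain ⟨m, v, rfl⟩ := exists_unit_mul_pow b hb
  rcases Nat.eq_zero_or_pos n with rfl | hn
  · left; rw [pow_zero, mul_one]; exact u.isUnit
  rcases Nat.eq_zero_or_pos m with rfl | hm
  · right; rw [pow_zero, mul_one]; exact v.isUnit
  exfalso
  obtain ⟨n', rfl⟩ := Nat.exists_eq_add_of_lt hn
  obtain ⟨m', rfl⟩ := Nat.exists_eq_add_of_lt hm
  apply not_isUnit_unif (F := F) (L := L)
  have h1 : unif F L * 1 = unif F L * (unif F L * (unif F L ^ (n' + m') * (u * v))) := by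
    conv_lhs => rw [mul_one, hab]
    ring
  have h2 := mul_left_cancel₀ unif_ne_zero h1
  exact IsUnit.of_mul_eq_one _ h2.symm

instance : IsDiscreteValuationRing (W F L) :=
  IsDiscreteValuationRing.ofHasUnitMulPowIrreducibleFactorization
    ⟨unif F L, irreducible_unif, fun {x} hx => by
      obtain ⟨n, u, hu⟩ := exists_unit_mul_pow x hx
      exact ⟨n, u, by rw [hu, mul_comm]⟩⟩

end Groth.Agent.Pi1.H397.Infty
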