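import Groth.Agent.Pi1.H397.Unr
import Mathlib.RingTheory.DedekindDomain.IntegralClosure
import Mathlib.RingTheory.Localization.AtPrime.Basic

/-!
# Unit discriminants: from the localisations to the ring
-/

set_option autoImplicit false

open Module
open Groth.Agent.Pi1.H397.Unr

namespace Groth.Agent.Pi1.H397.LocGlob

variable {P L E : Type*} [CommRing P] [IsDomain P] [IsPrincipalIdealRing P] [Field L]
  [Algebra P L] [IsFractionRing P L] [Field E] [Algebra L E] [FiniteDimensional L E]
  [Algebra.IsSeparable L E] [Algebra P E] [IsScalarTower P L E]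

/-- Scaling a family multiplies the discriminant. -/
theorem discr_smul {ι : Type*} [Fintype ι] [DecidableEq ι] (s : L) (e : ι → E) :
    Algebra.discr L (fun i => s • e i) = (s ^ Fintype.card ι) ^ 2 * Algebra.discr L e := by
  have := Algebra.discr_of_matrix_mulVec (A := L) e (Matrix.diagonal fun _ => s)
  rw [Matrix.det_diagonal, Finset.prod_const, Finset.card_univ] at this
  rw [← this]
  congr 1
  funext i
  rw [Matrix.diagonal_map (map_zero _), Matrix.mulVec_diagonal, Algebra.smul_def]

theorem unr_of_local
    (h : ∀ (p : Ideal P) [p.IsMaximal], ∃ (R : Type _) (_ : CommRing R) (_ : Algebra P R)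
      (_ : IsLocalization.AtPrime R p) (_ : Algebra R L) (_ : IsFractionRing R L)
      (_ : IsScalarTower P R L), Unr R L E) : Unr P L E := by
  classical
  let C := integralClosure P E
  have hloc : IsLocalization (Algebra.algebraMapSubmonoid C (nonZeroDivisors P)) E :=
    IsIntegralClosure.isLocalization P L E C
  have htf : IsTorsionFree P E := by
    have : IsTorsionFree P L := inferInstance
    have : FaithfulSMul P E := by
      rw [faithfulSMul_iff_algebraMap_injective, IsScalarTower.algebraMap_eq P L E]
      exact (algebraMap L E).injective.comp (IsFractionRing.injective P L)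
    infer_instance
  have hfree : Module.Free P C := IsIntegralClosure.module_free P L E C
  have hfin : Module.Finite P C := IsIntegralClosure.finite P L E C
  have hrank : finrank P C = finrank L E := IsIntegralClosure.rank P L E C
  let b : Basis (Fin (finrank L E)) P C := Module.finBasisOfFinrankEq P C hrank
  let bL : Basis (Fin (finrank L E)) L E := b.localizationLocalization L (nonZeroDivisors P) E
  have hbL : ∀ i, IsIntegral P (bL i) := fun i => by
    rw [Basis.localizationLocalization_apply]
    exact (b i).2
  obtain ⟨δ, hδ⟩ := IsIntegrallyClosed.algebraMap_eq_of_integral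
    (Algebra.discr_isIntegral L hbL : IsIntegral P (Algebra.discr L bL))
  rw [unr_iff]
  refine ⟨bL, hbL, δ, ?_, hδ⟩
  by_contra hu
  obtain ⟨p, hp, hmem⟩ := exists_max_ideal_of_mem_nonunits hu
  obtain ⟨R, _, _, _, _, _, _, hR⟩ := h p
  let _ : Algebra R E := ((algebraMap L E).comp (algebraMap R L)).toAlgebra
  have : IsScalarTower R L E := .of_algebraMap_eq fun _ => rfl
  have : IsScalarTower P R E := .of_algebraMap_eq fun x => by
    rw [IsScalarTower.algebraMap_apply P L E, IsScalarTower.algebraMap_apply P R L]
    rfl
  obtain ⟨e, he, u, huu, hue⟩ := unr_iff.mp hR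
  choose s hs using fun i => IsIntegral.exists_multiple_integral_of_isLocalization p.primeCompl (e i) (he i)
  let t : P := ∏ i, (s i : P)
  have ht : t ∈ p.primeCompl := prod_mem fun i _ => (s i).2
  have hint : ∀ i, IsIntegral P (t • e i) := by
    intro i
    have h1 : t = (∏ j ∈ Finset.univ.erase i, (s j : P)) * (s i : P) :=
      (Finset.prod_erase_mul _ _ (Finset.mem_univ i)).symm
    rw [h1, mul_smul]
    have h2 := hs i
    rw [Submonoid.smul_def] at h2
    exact h2.smul _
  let z : Fin (finrank L E) → C := fun i => ⟨t • e i, hint i⟩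
  let N : Matrix (Fin (finrank L E)) (Fin (finrank L E)) P := Matrix.of fun i j => b.repr (z i) j
  have h1 := Algebra.discr_of_matrix_mulVec (A := L) bL (N.map (algebraMap P L))
  have h2 : ((N.map (algebraMap P L)).map (algebraMap L E)).mulVec bL =
      fun i => (algebraMap P L t) • e i := by
    funext i
    have h3 : algebraMap C E (z i) = (algebraMap P L t) • e i := by
      rw [algebraMap_smul]
      rfl
    rw [← h3, ← bL.sum_repr (algebraMap C E (z i))]
    simp only [Matrix.mulVec, dotProduct, Matrix.map_apply]
    refine Finset.sum_congr rfl fun j _ => ?_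
    rw [Basis.localizationLocalization_repr_algebraMap, Algebra.smul_def]
    rfl
  rw [h2, discr_smul, ← hδ, ← hue] at h1
  have h4 : (N.map (algebraMap P L)).det = algebraMap P L N.det :=
    (RingHom.map_det (algebraMap P L) N).symm
  rw [h4] at h1
  have h1' : algebraMap R L ((algebraMap P R t ^ Fintype.card (Fin (finrank L E))) ^ 2 * u) =
      algebraMap R L (algebraMap P R (N.det ^ 2 * δ)) := by
    simp only [map_mul, map_pow, ← IsScalarTower.algebraMap_apply]
    exact h1
  have h5 := IsFractionRing.injective R L h1'
  have h6 : IsUnit (algebraMap P R t) := IsLocalization.map_units R (⟨t, ht⟩ : p.primeCompl)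
  have h7 : IsUnit (algebraMap P R (N.det ^ 2 * δ)) := by
    rw [← h5]
    exact ((h6.pow _).pow _).mul huu
  have h8 := (IsLocalization.AtPrime.isUnit_to_map_iff R p _).mp h7
  exact h8 (Ideal.mul_mem_left _ _ hmem)

end Groth.Agent.Pi1.H397.LocGlob
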