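import Groth.Agent.Pi1.H397.Unr
import Groth.Agent.Pi1.H397.Infty
import Mathlib.FieldTheory.Minpoly.IsIntegrallyClosed
import Mathlib.Algebra.Polynomial.Lifts
import Mathlib.LinearAlgebra.Matrix.ToLinearEquiv
import Mathlib.RingTheory.LocalRing.ResidueField.Basic
import Mathlib.RingTheory.DiscreteValuationRing.TFAE
import Mathlib.RingTheory.Polynomial.UniqueFactorization
import Mathlib.RingTheory.Valuation.ValuationRing

/-!
# Extensions of a rational function field unramified over all places

`exists_basis_isAlgebraic` : if `E / F(X)` is a finite separable extension with unit discriminant over `F[X]` and over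
the valuation ring at infinity then `E` has an `F(X)`-basis of elements algebraic over `F`.
-/

set_option autoImplicit false

open Polynomial Module IsLocalRing
open Groth.Agent.Pi1.H397.Unr Groth.Agent.Pi1.H397.Infty

namespace Groth.Agent.Pi1.H397.PLine

section Integral

variable {F L E : Type*} [Field F] [Field L] [Algebra F[X] L] [IsFractionRing F[X] L]
  [Field E] [Algebra L E] [Algebra F[X] E] [IsScalarTower F[X] L E]
  [Algebra F E] [IsScalarTower F F[X] E]

/-- Integral over `F[X]` and over the valuation ring at infinity implies integral over `F`. -/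
theorem isIntegral_of_isIntegral (x : E) (hx : IsIntegral F[X] x) (hw : IsIntegral (W F L) x) :
    IsIntegral F x := by
  have h1 := minpoly.isIntegrallyClosed_eq_field_fractions' (R := F[X]) L hx
  have h2 := minpoly.isIntegrallyClosed_eq_field_fractions' (R := W F L) L hw
  set p := minpoly F[X] x with hp
  have hmem : ∀ k, algebraMap F[X] L (p.coeff k) ∈ W F L := by
    intro k
    have h3 := congrArg (fun q => q.coeff k) (h1.symm.trans h2)
    simp only [coeff_map] at h3
    rw [h3]
    exact Subtype.property _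
  have hlift : p ∈ Polynomial.lifts (C : F →+* F[X]) := by
    rw [Polynomial.lifts_iff_coeff_lifts]
    intro k
    exact ⟨(p.coeff k).coeff 0, (eq_C_of_natDegree_eq_zero (natDegree_of_mem (hmem k))).symm⟩
  obtain ⟨q, hq, -, hqm⟩ := Polynomial.lifts_and_natDegree_eq_and_monic hlift (minpoly.monic hx)
  refine ⟨q, hqm, ?_⟩
  have h4 : (algebraMap F E) = (algebraMap F[X] E).comp (C : F →+* F[X]) :=
    IsScalarTower.algebraMap_eq F F[X] E
  rw [h4, ← eval₂_map, hq]
  exact minpoly.aeval F[X] x

end Integral

section Algorithm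

variable {F L E : Type*} [Field F] [Field L] [Algebra F[X] L] [IsFractionRing F[X] L]
  [Field E] [Algebra L E] [Algebra F[X] E] [IsScalarTower F[X] L E] [FiniteDimensional L E]
  {ι : Type*} [Fintype ι] [DecidableEq ι] (d : Basis ι L E)

/-- The data handled by the reduction algorithm. -/
structure Good (b : ι → E) (m : ι → ℤ) : Prop where
  int : ∀ i, IsIntegral F[X] (b i)
  disc : ∃ a : F, a ≠ 0 ∧ Algebra.discr L b = algebraMap F[X] L (C a)
  mem : ∀ i j, d.repr ((algebraMap F[X] L X ^ (-m i)) • b i) j ∈ W F L

/-- The matrix of the normalised family. -/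
noncomputable def mat (F : Type*) {L E : Type*} [Field F] [Field L] [Algebra F[X] L]
    [IsFractionRing F[X] L] [Field E] [Algebra L E] {ι : Type*} [Fintype ι]
    (d : Basis ι L E) (b : ι → E) (m : ι → ℤ) : Matrix ι ι L :=
  Matrix.of fun i j => d.repr ((algebraMap F[X] L X ^ (-m i)) • b i) j


theorem prod_zpow_neg {x : L} (hx : x ≠ 0) (m : ι → ℤ) : ∏ i, x ^ (-m i) = x ^ (-∑ i, m i) := by
  classical
  induction (Finset.univ : Finset ι) using Finset.induction_on with
  | empty => simp
  | insert i s hi ih => rw [Finset.prod_insert hi, Finset.sum_insert hi, ih, ← zpow_add₀ hx]; congr 1; ring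

omit [FiniteDimensional L E] [Algebra F[X] E] [IsScalarTower F[X] L E] in
theorem discr_eq (b : ι → E) (m : ι → ℤ) :
    (algebraMap F[X] L X ^ (-∑ i, m i)) ^ 2 * Algebra.discr L b =
      (mat F d b m).det ^ 2 * Algebra.discr L d := by
  have h1 : Algebra.discr L (fun i => (algebraMap F[X] L X ^ (-m i)) • b i) =
      (algebraMap F[X] L X ^ (-∑ i, m i)) ^ 2 * Algebra.discr L b := by
    have := Algebra.discr_of_matrix_mulVec (A := L) b
      (Matrix.diagonal fun i => algebraMap F[X] L X ^ (-m i))
    rw [Matrix.det_diagonal, prod_zpow_neg X_ne_zero] at this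
    rw [← this]
    congr 1
    funext i
    rw [Matrix.diagonal_map (map_zero _), Matrix.mulVec_diagonal, Algebra.smul_def]
  have h2 := Algebra.discr_of_matrix_mulVec (A := L) d (mat F d b m)
  rw [← h1, ← h2]
  congr 1
  funext i
  rw [← d.sum_repr ((algebraMap F[X] L X ^ (-m i)) • b i)]
  simp only [Matrix.mulVec, dotProduct, Matrix.map_apply, mat, Matrix.of_apply]
  refine Finset.sum_congr rfl fun j _ => ?_
  rw [Algebra.smul_def]

variable {d}

omit [FiniteDimensional L E] in
theorem det_mem {b : ι → E} {m : ι → ℤ} (h : Good (F := F) d b m) : (mat F d b m).det ∈ W F L := by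
  rw [Matrix.det_apply]
  refine sum_mem fun σ _ => ?_
  rw [Units.smul_def, zsmul_eq_mul]
  refine mul_mem (intCast_mem _ _) (prod_mem fun i _ => h.mem _ _)

omit [FiniteDimensional L E] in
/-- The sum of the exponents is nonnegative. -/
theorem sum_nonneg {b : ι → E} {m : ι → ℤ} (h : Good (F := F) d b m) {u : W F L}
    (hu : (u : L) = Algebra.discr L d) : 0 ≤ ∑ i, m i := by
  obtain ⟨a, ha, hda⟩ := h.disc
  have h1 := discr_eq (F := F) d b m
  rw [hda, ← hu] at h1
  have h2 : (algebraMap F[X] L X ^ (-∑ i, m i)) ^ 2 * algebraMap F[X] L (C a) *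
      algebraMap F[X] L (C a⁻¹) ∈ W F L := by
    rw [h1]
    exact mul_mem (mul_mem (pow_mem (det_mem h) 2) u.2) (C_mem _)
  rw [mul_assoc, ← map_mul, ← C_mul, mul_inv_cancel₀ ha, C_1, map_one, mul_one, ← zpow_natCast,
    ← zpow_mul] at h2
  have := zpow_X_mem h2
  push_cast at this
  omega

/-- Elements of the maximal ideal are divisible by the uniformizer. -/
theorem X_mul_mem {w : W F L} (hw : w ∈ maximalIdeal (W F L)) :
    algebraMap F[X] L X * (w : L) ∈ W F L := by
  rw [(irreducible_unif (F := F) (L := L)).maximalIdeal_eq, Ideal.mem_span_singleton'] at hw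
  obtain ⟨v, rfl⟩ := hw
  change algebraMap F[X] L X * ((v : L) * (algebraMap F[X] L X)⁻¹) ∈ W F L
  rw [mul_comm (v : L), ← mul_assoc, mul_inv_cancel₀ Infty.X_ne_zero, one_mul]
  exact v.2

/-- The constants surject onto the residue field. -/
theorem exists_residue (x : ResidueField (W F L)) :
    ∃ a : F, residue (W F L) ⟨_, C_mem a⟩ = x := by
  obtain ⟨w, rfl⟩ := residue_surjective x
  obtain ⟨a, ha⟩ := exists_const (F := F) (w : L) w.2
  refine ⟨a, ?_⟩
  rw [← sub_eq_zero, ← map_sub, residue_eq_zero_iff,
    (irreducible_unif (F := F) (L := L)).maximalIdeal_eq, Ideal.mem_span_singleton']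
  refine ⟨-⟨_, ha⟩, Subtype.ext ?_⟩
  change -(algebraMap F[X] L X * ((w : L) - algebraMap F[X] L (C a))) * (algebraMap F[X] L X)⁻¹ =
    algebraMap F[X] L (C a) - (w : L)
  have hX := X_ne_zero (F := F) (L := L)
  field_simp
  ring

omit [FiniteDimensional L E] in
/-- The reduction step. -/
theorem exists_step {b : ι → E} {m : ι → ℤ} (h : Good (F := F) d b m) {u : (W F L)ˣ}
    (hu : ((u : W F L) : L) = Algebra.discr L d) (hpos : 0 < ∑ i, m i) :
    ∃ (b' : ι → E) (m' : ι → ℤ), Good (F := F) d b' m' ∧ ∑ i, m' i = ∑ i, m i - 1 := by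
  classical
  obtain ⟨a, ha, hda⟩ := h.disc
  have hX := Infty.X_ne_zero (F := F) (L := L)
  let M : Matrix ι ι (W F L) := Matrix.of fun i j => ⟨_, h.mem i j⟩
  have hM : M.map (algebraMap (W F L) L) = mat F d b m := rfl
  have hdet : ((M.det : W F L) : L) = (mat F d b m).det := by
    rw [← hM]
    exact RingHom.map_det (algebraMap (W F L) L) M
  have hmax : M.det ∈ maximalIdeal (W F L) := by
    rw [mem_maximalIdeal, mem_nonunits_iff]
    rintro ⟨v, hv⟩
    have h1 := discr_eq (F := F) d b m
    rw [hda, ← hu, ← hdet, ← hv] at h1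
    have h2 : ((((v⁻¹ : (W F L)ˣ) : W F L) : L) * ((v : W F L) : L)) = 1 := by
      have : ((v⁻¹ : (W F L)ˣ) : W F L) * (v : W F L) = 1 := Units.inv_mul v
      exact congrArg Subtype.val this
    have h3 : ((((u⁻¹ : (W F L)ˣ) : W F L) : L) * ((u : W F L) : L)) = 1 := by
      have : ((u⁻¹ : (W F L)ˣ) : W F L) * (u : W F L) = 1 := Units.inv_mul u
      exact congrArg Subtype.val this
    have h4 : algebraMap F[X] L X ^ (2 * ∑ i, m i) ∈ W F L := by
      have h5 : algebraMap F[X] L X ^ (2 * ∑ i, m i) = algebraMap F[X] L (C a) *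
          (((v⁻¹ : (W F L)ˣ) : W F L) : L) ^ 2 * (((u⁻¹ : (W F L)ˣ) : W F L) : L) := by
        have h6 : algebraMap F[X] L X ^ (2 * ∑ i, m i) *
            (algebraMap F[X] L X ^ (-∑ i, m i)) ^ 2 = 1 := by
          rw [← zpow_natCast, ← zpow_mul, ← zpow_add₀ hX]
          push_cast
          rw [show 2 * ∑ i, m i + (-∑ i, m i) * 2 = 0 by ring, zpow_zero]
        calc algebraMap F[X] L X ^ (2 * ∑ i, m i)
            = algebraMap F[X] L X ^ (2 * ∑ i, m i) *
              ((((v⁻¹ : (W F L)ˣ) : W F L) : L) * ((v : W F L) : L)) ^ 2 *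
              ((((u⁻¹ : (W F L)ˣ) : W F L) : L) * ((u : W F L) : L)) := by
              rw [h2, h3, one_pow, mul_one, mul_one]
          _ = algebraMap F[X] L X ^ (2 * ∑ i, m i) * (((v : W F L) : L) ^ 2 * ((u : W F L) : L)) *
              (((v⁻¹ : (W F L)ˣ) : W F L) : L) ^ 2 * (((u⁻¹ : (W F L)ˣ) : W F L) : L) := by ring
          _ = (algebraMap F[X] L X ^ (2 * ∑ i, m i) * (algebraMap F[X] L X ^ (-∑ i, m i)) ^ 2) *
              algebraMap F[X] L (C a) *
              (((v⁻¹ : (W F L)ˣ) : W F L) : L) ^ 2 * (((u⁻¹ : (W F L)ˣ) : W F L) : L) := by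
              rw [← h1]; ring
          _ = _ := by rw [h6, one_mul]
      rw [h5]
      exact mul_mem (mul_mem (C_mem _) (pow_mem (Subtype.property _) 2)) (Subtype.property _)
    have := zpow_X_mem h4
    omega
  have hred : (M.map (residue (W F L))).det = 0 := by
    have : (M.map (residue (W F L))).det = residue (W F L) M.det :=
      (RingHom.map_det (residue (W F L)) M).symm
    rw [this, residue_eq_zero_iff]
    exact hmax
  obtain ⟨cbar, hc0, hc⟩ := Matrix.exists_vecMul_eq_zero_iff.mpr hred
  choose c hcc using fun i => exists_residue (F := F) (L := L) (cbar i)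
  obtain ⟨i0, hi0⟩ : ∃ i, cbar i ≠ 0 := Function.ne_iff.mp hc0
  have hczero : c i0 ≠ 0 := by
    intro h0
    apply hi0
    rw [← hcc i0]
    have : (⟨_, C_mem (c i0)⟩ : W F L) = 0 := Subtype.ext (by simp [h0])
    rw [this, map_zero]
  obtain ⟨j, hj, hjmax⟩ := Finset.exists_max_image (Finset.univ.filter fun i => c i ≠ 0) m
    ⟨i0, by simpa using hczero⟩
  have hcj : c j ≠ 0 := by simpa using hj
  let a' : ι → F[X] := fun i => if c i = 0 then 0 else C (c i) * X ^ (m j - m i).toNat
  have ha' : ∀ i, algebraMap F[X] L (a' i) =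
      algebraMap F[X] L (C (c i)) * algebraMap F[X] L X ^ (m j - m i) := by
    intro i
    by_cases hi : c i = 0
    · simp [a', hi]
    · have hle : m i ≤ m j := hjmax i (by simpa using hi)
      simp only [a', if_neg hi, map_mul, map_pow]
      congr 1
      conv_rhs => rw [show m j - m i = ((m j - m i).toNat : ℤ) by omega]
      rw [zpow_natCast]
  have haj : a' j = C (c j) := by simp [a', hcj]
  let bj : E := ∑ i, algebraMap F[X] E (a' i) * b i
  have hbj : bj = ∑ i, algebraMap F[X] L (a' i) • b i := by
    simp only [bj]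
    refine Finset.sum_congr rfl fun i _ => ?_
    rw [Algebra.smul_def, ← IsScalarTower.algebraMap_apply]
  refine ⟨Function.update b j bj, Function.update m j (m j - 1), ⟨?_, ?_, ?_⟩, ?_⟩
  · intro i
    by_cases hi : i = j
    · subst hi
      rw [Function.update_self]
      exact IsIntegral.sum _ fun i _ => isIntegral_algebraMap.mul (h.int i)
    · rw [Function.update_of_ne hi]
      exact h.int i
  · refine ⟨c j ^ 2 * a, mul_ne_zero (pow_ne_zero _ hcj) ha, ?_⟩
    have h1 := Algebra.discr_of_matrix_mulVec (A := L) b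
      ((1 : Matrix ι ι L).updateRow j fun i => algebraMap F[X] L (a' i))
    have h2 : ((1 : Matrix ι ι L).updateRow j fun i => algebraMap F[X] L (a' i)).det =
        algebraMap F[X] L (C (c j)) := by
      rw [← Matrix.cramer_transpose_apply, Matrix.transpose_one, Matrix.cramer_one]
      simp [haj]
    have h3 : Matrix.mulVec (((1 : Matrix ι ι L).updateRow j fun i => algebraMap F[X] L (a' i)).map
        (algebraMap L E)) b = Function.update b j bj := by
      funext i
      by_cases hi : i = j
      · subst hi
        rw [Function.update_self, hbj]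
        simp only [Matrix.mulVec, dotProduct, Matrix.map_apply, Matrix.updateRow_self,
          Algebra.smul_def]
      · rw [Function.update_of_ne hi]
        simp only [Matrix.mulVec, dotProduct, Matrix.map_apply, Matrix.updateRow_ne hi,
          Matrix.one_apply]
        simp
    rw [← h3, h1, h2, hda]
    simp only [map_mul, map_pow]
  · intro i k
    by_cases hi : i = j
    · subst hi
      rw [Function.update_self, Function.update_self, hbj]
      have h1 : (algebraMap F[X] L X ^ (-(m i - 1))) • ∑ i', algebraMap F[X] L (a' i') • b i' =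
          algebraMap F[X] L X • ∑ i', algebraMap F[X] L (C (c i')) •
            ((algebraMap F[X] L X ^ (-m i')) • b i') := by
        rw [Finset.smul_sum, Finset.smul_sum]
        refine Finset.sum_congr rfl fun i' _ => ?_
        rw [ha', smul_smul, smul_smul, smul_smul]
        congr 1
        have h2 : algebraMap F[X] L X ^ (-(m i - 1)) * algebraMap F[X] L X ^ (m i - m i') =
            algebraMap F[X] L X * algebraMap F[X] L X ^ (-m i') := by
          rw [← zpow_add₀ hX, ← zpow_one_add₀ hX]
          congr 1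
          ring
        calc _ = algebraMap F[X] L (C (c i')) *
              (algebraMap F[X] L X ^ (-(m i - 1)) * algebraMap F[X] L X ^ (m i - m i')) := by ring
          _ = _ := by rw [h2]; ring
      rw [h1, map_smul, Finsupp.smul_apply, smul_eq_mul, map_sum, Finset.sum_apply']
      have h2 : (∑ i', (⟨_, C_mem (c i')⟩ : W F L) * M i' k) ∈ maximalIdeal (W F L) := by
        rw [← residue_eq_zero_iff, map_sum]
        have h3 := congrFun hc k
        simp only [Matrix.vecMul, dotProduct, Matrix.map_apply, Pi.zero_apply] at h3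
        rw [← h3]
        refine Finset.sum_congr rfl fun i' _ => ?_
        rw [map_mul, hcc]
      have h3 := X_mul_mem h2
      have h4 : ((∑ i', (⟨_, C_mem (c i')⟩ : W F L) * M i' k : W F L) : L) =
          ∑ i', (d.repr (algebraMap F[X] L (C (c i')) • (algebraMap F[X] L X ^ (-m i')) • b i')) k := by
        change (algebraMap (W F L) L) _ = _
        rw [map_sum]
        refine Finset.sum_congr rfl fun i' _ => ?_
        rw [map_smul, Finsupp.smul_apply, smul_eq_mul]
        rfl
      rw [← h4]
      exact h3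
    · rw [Function.update_of_ne hi, Function.update_of_ne hi]
      exact h.mem i k
  · have h1 := Finset.sum_update_of_mem (Finset.mem_univ j) m (m j - 1)
    rw [h1]
    have h2 := Finset.sum_update_of_mem (Finset.mem_univ j) m (m j)
    rw [Function.update_eq_self] at h2
    rw [h2]
    ring

omit [FiniteDimensional L E] in
theorem exists_sum_zero {u : (W F L)ˣ}
    (hu : ((u : W F L) : L) = Algebra.discr L d) (n : ℕ) : ∀ {b : ι → E} {m : ι → ℤ} (_ : Good (F := F) d b m)
    (_ : ∑ i, m i = n),
    ∃ (b' : ι → E) (m' : ι → ℤ), Good (F := F) d b' m' ∧ ∑ i, m' i = 0 := by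
  induction n with
  | zero => exact fun h h0 => ⟨_, _, h, by simpa using h0⟩
  | succ n ih =>
    intro b m h hn
    obtain ⟨b', m', h', hs⟩ := exists_step h hu (by rw [hn]; positivity)
    exact ih h' (by rw [hs, hn]; push_cast; ring)

omit [FiniteDimensional L E] in
/-- Elements of the lattice of a basis integral at infinity are integral at infinity. -/
theorem isIntegral_W (hd : ∀ j, IsIntegral (W F L) (d j)) (x : E) (hx : ∀ j, d.repr x j ∈ W F L) :
    IsIntegral (W F L) x := by
  rw [← d.sum_repr x]
  refine IsIntegral.sum _ fun j _ => ?_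
  rw [Algebra.smul_def]
  refine IsIntegral.mul ?_ (hd j)
  exact isIntegral_algebraMap (R := W F L) (A := E) (x := ⟨_, hx j⟩)

end Algorithm

section Main

variable {F L E : Type*} [Field F] [Field L] [Algebra F[X] L] [IsFractionRing F[X] L]
  [Field E] [Algebra L E] [Algebra F[X] E] [IsScalarTower F[X] L E] [FiniteDimensional L E]
  [Algebra F E] [IsScalarTower F F[X] E]

/-- A finite extension `E` of `F(X)` with unit discriminant over `F[X]` and over the valuation ring at infinity has
a basis of elements integral over `F`. -/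
theorem exists_basis_isIntegral (h0 : Unr F[X] L E) (hinf : Unr (W F L) L E) :
    ∃ b : Basis (Fin (finrank L E)) L E, ∀ i, IsIntegral F (b i) := by
  classical
  obtain ⟨c, hc, u, hu, hcu⟩ := unr_iff.mp h0
  obtain ⟨d, hd, v, hv, hdv⟩ := unr_iff.mp hinf
  obtain ⟨v, rfl⟩ := hv
  obtain ⟨a, ha, rfl⟩ := Polynomial.isUnit_iff.mp hu
  -- the initial data
  choose m hm using fun i j => exists_pow_mul_mem (F := F) (L := L) (d.repr (c i) j)
  have hgood : Good (F := F) d c (fun i => ((∑ j, m i j : ℕ) : ℤ)) := by
    refine ⟨hc, ⟨a, ha.ne_zero, hcu.symm⟩, fun i j => ?_⟩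
    rw [map_smul, Finsupp.smul_apply, smul_eq_mul, zpow_neg, zpow_natCast, ← inv_pow,
      ← Finset.sum_erase_add _ _ (Finset.mem_univ j), pow_add, mul_assoc]
    exact mul_mem (pow_mem inv_X_mem _) (hm i j)
  obtain ⟨b, e, hb, he⟩ := exists_sum_zero (d := d) (u := v) hdv _ hgood
    (show ∑ i, ((∑ j, m i j : ℕ) : ℤ) = ((∑ i, ∑ j, m i j : ℕ) : ℤ) by push_cast; rfl)
  have hX := Infty.X_ne_zero (F := F) (L := L)
  have hli : LinearIndependent L b := by
    by_contra hcon
    obtain ⟨a', ha', hd'⟩ := hb.disc
    rw [Algebra.discr_zero_of_not_linearIndependent L hcon] at hd'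
    exact algebraMap_ne_zero F L (C_ne_zero.mpr ha') hd'.symm
  have hX_E : algebraMap L E (algebraMap F[X] L X) = algebraMap F[X] E X :=
    (IsScalarTower.algebraMap_apply F[X] L E X).symm
  -- the exponents are nonnegative
  have hnonneg : ∀ i, 0 ≤ e i := by
    intro i
    by_contra hlt
    push Not at hlt
    -- `b i` and `X * b i` are integral over `F`
    have key : ∀ k : ℕ, k ≤ 1 → IsIntegral F (algebraMap F[X] E X ^ k * b i) := by
      intro k hk
      refine isIntegral_of_isIntegral (L := L) _ ((isIntegral_algebraMap.pow k).mul (hb.int i)) ?_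
      refine isIntegral_W hd _ fun j => ?_
      have h1 : algebraMap F[X] E X ^ k * b i =
          (algebraMap F[X] L X ^ ((k : ℤ) + e i)) • ((algebraMap F[X] L X ^ (-e i)) • b i) := by
        rw [smul_smul, ← zpow_add₀ hX, add_neg_cancel_right, Algebra.smul_def, zpow_natCast,
          map_pow, hX_E]
      rw [h1, map_smul, Finsupp.smul_apply, smul_eq_mul]
      exact mul_mem (zpow_X_mem_of_nonpos (by omega)) (hb.mem i j)
    have h0' := key 0 (by omega)
    have h1' := key 1 le_rfl
    rw [pow_zero, one_mul] at h0'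
    rw [pow_one] at h1'
    have hbi : b i ≠ 0 := hli.ne_zero i
    have h2 : IsAlgebraic F (algebraMap F[X] E X) := by
      have h3 : algebraMap F[X] E X = (algebraMap F[X] E X * b i) * (b i)⁻¹ := by
        rw [mul_assoc, mul_inv_cancel₀ hbi, mul_one]
      rw [h3]
      exact h1'.isAlgebraic.mul h0'.isAlgebraic.inv
    have hinj : Function.Injective (algebraMap F[X] E) := by
      rw [IsScalarTower.algebraMap_eq F[X] L E]
      exact (algebraMap L E).injective.comp (IsFractionRing.injective F[X] L)
    exact Polynomial.transcendental_X F ((isAlgebraic_algebraMap_iff hinj).mp h2)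
  have hzero : ∀ i, e i = 0 := fun i =>
    (Finset.sum_eq_zero_iff_of_nonneg fun i _ => hnonneg i).mp he i (Finset.mem_univ i)
  have : Nonempty (Fin (finrank L E)) := ⟨⟨0, finrank_pos⟩⟩
  let B : Basis (Fin (finrank L E)) L E := basisOfLinearIndependentOfCardEqFinrank hli (by simp)
  refine ⟨B, fun i => ?_⟩
  have hBi : B i = b i := by simp [B]
  rw [hBi]
  refine isIntegral_of_isIntegral (L := L) _ (hb.int i) (isIntegral_W hd _ fun j => ?_)
  have := hb.mem i j
  rwa [hzero i, neg_zero, zpow_zero, one_smul] at this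

end Main

end Groth.Agent.Pi1.H397.PLine
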