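import Mathlib.RingTheory.Discriminant
import Mathlib.RingTheory.Localization.Integral
import Mathlib.RingTheory.IntegralClosure.IntegrallyClosed
import Mathlib.LinearAlgebra.Matrix.Adjugate

/-!
# Bases with unit discriminant

`Unr R L E` : the finite extension `E` of the fraction field `L` of `R` has an `L`-basis consisting of
elements integral over `R` with discriminant a unit of `R`.
-/

set_option autoImplicit false

open Module

namespace Groth.Agent.Pi1.H397.Unr

/-- `E` has an `L`-basis of elements integral over `R` whose discriminant is a unit of `R`. -/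
def Unr (R L E : Type*) [CommRing R] [Field L] [Algebra R L] [Field E] [Algebra L E] : Prop :=
  ∃ c : Basis (Fin (finrank L E)) L E,
    (∀ i, ((algebraMap L E).comp (algebraMap R L)).IsIntegralElem (c i)) ∧
      ∃ u : R, IsUnit u ∧ algebraMap R L u = Algebra.discr L c

section

variable {R L E : Type*} [CommRing R] [Field L] [Algebra R L] [Field E] [Algebra L E]
  [Algebra R E] [IsScalarTower R L E]

theorem isIntegralElem_iff (x : E) :
    ((algebraMap L E).comp (algebraMap R L)).IsIntegralElem x ↔ IsIntegral R x := by
  rw [← IsScalarTower.algebraMap_eq R L E]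
  rfl

theorem unr_iff : Unr R L E ↔ ∃ c : Basis (Fin (finrank L E)) L E, (∀ i, IsIntegral R (c i)) ∧
      ∃ u : R, IsUnit u ∧ algebraMap R L u = Algebra.discr L c := by
  simp only [Unr, isIntegralElem_iff]

variable [IsDomain R] [IsIntegrallyClosed R] [IsFractionRing R L] [FiniteDimensional L E]
  {ι : Type*} [Fintype ι] [DecidableEq ι]

/-- Traces of integral elements lie in the integrally closed base. -/
theorem exists_trace (x : E) (hx : IsIntegral R x) :
    ∃ r : R, algebraMap R L r = Algebra.trace L E x :=
  IsIntegrallyClosed.algebraMap_eq_of_integral (Algebra.isIntegral_trace hx)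

/-- Integral elements have coordinates in `R` with respect to an integral basis with unit
discriminant. -/
theorem exists_repr (c : Basis ι L E) (hc : ∀ i, IsIntegral R (c i)) (u : R) (hu : IsUnit u)
    (hdisc : algebraMap R L u = Algebra.discr L c) (x : E) (hx : IsIntegral R x) (i : ι) :
    ∃ r : R, algebraMap R L r = c.repr x i := by
  choose T hT using fun i j => exists_trace (L := L) (c i * c j) ((hc i).mul (hc j))
  choose t ht using fun j => exists_trace (L := L) (x * c j) (hx.mul (hc j))
  let TM : Matrix ι ι R := Matrix.of T
  have hTM : TM.map (algebraMap R L) = Algebra.traceMatrix L c := by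
    ext i j
    simp [TM, Algebra.traceMatrix, hT, Algebra.traceForm_apply]
  have hdet : TM.det = u := by
    apply IsFractionRing.injective R L
    rw [hdisc, Algebra.discr_def, ← hTM, RingHom.map_det]
    rfl
  have hunit : IsUnit TM.det := hdet ▸ hu
  have h1 : Matrix.vecMul (fun i => c.repr x i) (TM.map (algebraMap R L)) =
      fun j => algebraMap R L (t j) := by
    funext j
    rw [hTM, ht j]
    conv_rhs => rw [← c.sum_repr x, Finset.sum_mul, map_sum]
    simp only [Matrix.vecMul, dotProduct]
    refine Finset.sum_congr rfl fun i _ => ?_
    rw [smul_mul_assoc, map_smul, smul_eq_mul]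
    rfl
  have h2 : (fun i => c.repr x i) = fun j => algebraMap R L (Matrix.vecMul t TM⁻¹ j) := by
    have h3 : Matrix.vecMul (Matrix.vecMul (fun i => c.repr x i) (TM.map (algebraMap R L)))
        (TM⁻¹.map (algebraMap R L)) = fun i => c.repr x i := by
      rw [Matrix.vecMul_vecMul, ← Matrix.map_mul, Matrix.mul_nonsing_inv _ hunit, Matrix.map_one _ (map_zero _) (map_one _),
        Matrix.vecMul_one]
    rw [← h3, h1]
    funext j
    simp only [Matrix.vecMul, dotProduct, map_sum, map_mul, Matrix.map_apply]
  exact ⟨_, (congrFun h2 i).symm⟩

end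

end Groth.Agent.Pi1.H397.Unr
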